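import Mathlib

set_option autoImplicit false

/-! Arithmetic for the spectrum of `PSL_3(q)`. -/

namespace Cfsg.Agent.Lib.Helper5.Spec3

theorem gcd_dvd_sq_add (q : ℕ) (hq : 1 ≤ q) : Nat.gcd 3 (q - 1) ∣ q ^ 2 + q + 1 := by
  have h1 : q ^ 2 + q + 1 = (q - 1) * (q + 2) + 3 := by
    obtain ⟨k, rfl⟩ : ∃ k, q = k + 1 := ⟨q - 1, by omega⟩
    simp only [Nat.add_sub_cancel]
    ring
  rw [h1]
  exact Dvd.dvd.add (Dvd.dvd.mul_right (Nat.gcd_dvd_right _ _) _) (Nat.gcd_dvd_left _ _)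

theorem gcd_dvd_add_two (q : ℕ) (hq : 1 ≤ q) : Nat.gcd 3 (q - 1) ∣ q + 2 := by
  have h1 : q + 2 = (q - 1) + 3 := by omega
  rw [h1]
  exact Dvd.dvd.add (Nat.gcd_dvd_right _ _) (Nat.gcd_dvd_left _ _)

theorem cube_sub_one_div (q : ℕ) (hq : 2 ≤ q) : (q ^ 3 - 1) / (q - 1) = q ^ 2 + q + 1 := by
  have h1 : q ^ 3 - 1 = (q - 1) * (q ^ 2 + q + 1) := by
    obtain ⟨k, rfl⟩ : ∃ k, q = k + 1 := ⟨q - 1, by omega⟩
    simp only [Nat.add_sub_cancel]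
    have : (k + 1) ^ 3 = k * ((k + 1) ^ 2 + (k + 1) + 1) + 1 := by ring
    rw [this, Nat.add_sub_cancel]
  rw [h1, Nat.mul_div_cancel_left _ (by omega)]

theorem sq_sub_one_eq (q : ℕ) (hq : 1 ≤ q) : q ^ 2 - 1 = (q - 1) * (q + 1) := by
  obtain ⟨k, rfl⟩ : ∃ k, q = k + 1 := ⟨q - 1, by omega⟩
  simp only [Nat.add_sub_cancel]
  have : (k + 1) ^ 2 = k * (k + 1 + 1) + 1 := by ring
  rw [this, Nat.add_sub_cancel]

theorem sq_sub_one_div (q : ℕ) (hq : 2 ≤ q) : (q ^ 2 - 1) / (q - 1) = q + 1 := by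
  rw [sq_sub_one_eq q (by omega), Nat.mul_div_cancel_left _ (by omega)]

theorem sq_sub_one_div_gcd (q : ℕ) (hq : 1 ≤ q) :
    (q ^ 2 - 1) / Nat.gcd 3 (q - 1) = (q + 1) * ((q - 1) / Nat.gcd 3 (q - 1)) := by
  rw [sq_sub_one_eq q hq, mul_comm (q - 1) (q + 1), Nat.mul_div_assoc _ (Nat.gcd_dvd_right _ _)]

theorem gcd_three_pos (q : ℕ) : 0 < Nat.gcd 3 (q - 1) := Nat.gcd_pos_of_pos_left _ (by norm_num)

/-- if `A ∣ 3 j` and `A ∣ (q - 1) j` then `A / gcd(3, q - 1) ∣ j` -/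
theorem div_gcd_dvd (q A j : ℕ) (hA : Nat.gcd 3 (q - 1) ∣ A) (h3 : A ∣ 3 * j)
    (hq : A ∣ (q - 1) * j) : A / Nat.gcd 3 (q - 1) ∣ j := by
  have h1 : A ∣ Nat.gcd (3 * j) ((q - 1) * j) := Nat.dvd_gcd h3 hq
  rw [Nat.gcd_mul_right] at h1
  obtain ⟨B, hB⟩ := hA
  rw [hB, Nat.mul_div_cancel_left _ (gcd_three_pos q)]
  rw [hB] at h1
  exact Nat.dvd_of_mul_dvd_mul_left (gcd_three_pos q) h1

/-- if `q² + q + 1 ∣ j (q - 1)` then `(q² + q + 1) / gcd(3, q - 1) ∣ j` -/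
theorem sq_add_div_gcd_dvd (q j : ℕ) (hq : 1 ≤ q) (h : q ^ 2 + q + 1 ∣ j * (q - 1)) :
    (q ^ 2 + q + 1) / Nat.gcd 3 (q - 1) ∣ j := by
  have h1 : q ^ 2 + q + 1 = 3 + (q - 1) * (q + 2) := by
    obtain ⟨k, rfl⟩ : ∃ k, q = k + 1 := ⟨q - 1, by omega⟩
    simp only [Nat.add_sub_cancel]
    ring
  have hg : Nat.gcd (q ^ 2 + q + 1) (q - 1) = Nat.gcd 3 (q - 1) := by
    rw [h1, Nat.gcd_add_mul_left_left]
  rw [← hg]
  have hpos : 0 < Nat.gcd (q ^ 2 + q + 1) (q - 1) := Nat.gcd_pos_of_pos_left _ (by positivity)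
  have hcop := Nat.coprime_div_gcd_div_gcd hpos
  obtain ⟨s1, hs1⟩ := Nat.gcd_dvd_left (q ^ 2 + q + 1) (q - 1)
  obtain ⟨u, hu⟩ := Nat.gcd_dvd_right (q ^ 2 + q + 1) (q - 1)
  obtain ⟨g, hgdef⟩ : ∃ g, g = Nat.gcd (q ^ 2 + q + 1) (q - 1) := ⟨_, rfl⟩
  rw [← hgdef] at hpos hcop hs1 hu ⊢
  have e1 : (q ^ 2 + q + 1) / g = s1 := by
    rw [hs1, Nat.mul_div_cancel_left _ hpos]
  have e2 : (q - 1) / g = u := by
    rw [hu, Nat.mul_div_cancel_left _ hpos]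
  rw [e1, e2] at hcop
  rw [e1]
  rw [hs1, hu] at h
  have h2 : g * s1 ∣ g * (j * u) := by
    have : j * (g * u) = g * (j * u) := by ring
    rw [← this]
    exact h
  have h3 : s1 ∣ j * u := Nat.dvd_of_mul_dvd_mul_left hpos h2
  exact hcop.dvd_of_dvd_mul_right h3

end Cfsg.Agent.Lib.Helper5.Spec3
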