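import Mathlib
import Cfsg.Agent.Lib.Helper5.Spec3.NT3
import Cfsg.Agent.Lib.Helper5.SpecSL.ExistK1
import Cfsg.Agent.Lib.Helper5.SpecSL.Singer
import Cfsg.Agent.Lib.Helper5.SpecSL.NoRP2

set_option autoImplicit false

/-! Cyclic subgroups of `PSL_3(q)` of the five orders in the spectrum. -/

namespace Cfsg.Agent.Lib.Helper5.Spec3

open Cfsg.Agent.Lib.Helper5.SpecSL

variable {F : Type*} [Field F] [Fintype F]

theorem exists_orderOf_of_forall {G : Type*} [Group G] [Finite G] (x : G) (N : ℕ)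
    (h : ∀ j, x ^ j = 1 → N ∣ j) (m : ℕ) (hm : m ∣ N) : ∃ y : G, orderOf y = m := by
  obtain ⟨o, ho⟩ : ∃ o, o = orderOf x := ⟨_, rfl⟩
  have ho0 : 0 < o := by rw [ho]; exact orderOf_pos x
  have hmo : m ∣ o := hm.trans (h o (by rw [ho]; exact pow_orderOf_eq_one x))
  have hm0 : 0 < m := Nat.pos_of_dvd_of_pos hmo ho0
  refine ⟨x ^ (o / m), ?_⟩
  have hdiv0 : o / m ≠ 0 := by
    have := Nat.div_pos (Nat.le_of_dvd ho0 hmo) hm0
    omega
  rw [orderOf_pow_of_dvd hdiv0 (by rw [← ho]; exact Nat.div_dvd_of_dvd hmo), ← ho]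
  exact Nat.div_div_self hmo ho0.ne'

/-- the diagonal torus: order `q - 1` -/
theorem exists_diag : ∃ x : Matrix.ProjectiveSpecialLinearGroup (Fin 3) F,
    ∀ j, x ^ j = 1 → Fintype.card F - 1 ∣ j := by
  obtain ⟨a, ha0, ha⟩ := exists_orderOf_eq (F := F) (Fintype.card F - 1) dvd_rfl
  have hdet : (Matrix.diagonal ![a, a⁻¹, 1]).det = 1 := by
    rw [Matrix.det_diagonal, Fin.prod_univ_three]
    simp [ha0]
  obtain ⟨x, hx⟩ : ∃ x : Matrix.SpecialLinearGroup (Fin 3) F,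
      (x : Matrix (Fin 3) (Fin 3) F) = Matrix.diagonal ![a, a⁻¹, 1] := ⟨⟨_, hdet⟩, rfl⟩
  refine ⟨(x : Matrix.ProjectiveSpecialLinearGroup (Fin 3) F), ?_⟩
  intro j hj
  obtain ⟨z, -, hz⟩ := (mk_pow_eq_one_iff x j).mp hj
  rw [hx, Matrix.diagonal_pow] at hz
  have h22 := congrFun (congrFun hz 2) 2
  have h00 := congrFun (congrFun hz 0) 0
  simp at h22 h00
  rw [← ha]
  apply orderOf_dvd_of_pow_eq_one
  rw [h00, ← h22]

/-- `J_2(b) ⊕ b⁻²`: order `p (q - 1) / d` -/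
theorem exists_jordan_two (p : ℕ) [Fact p.Prime] [CharP F p] :
    ∃ x : Matrix.ProjectiveSpecialLinearGroup (Fin 3) F,
      ∀ j, x ^ j = 1 → p * ((Fintype.card F - 1) / Nat.gcd 3 (Fintype.card F - 1)) ∣ j := by
  have hpp : p.Prime := Fact.out
  have hq : 1 ≤ Fintype.card F := Fintype.card_pos
  have hpq : p ∣ Fintype.card F := by
    obtain ⟨f, -, hf⟩ := FiniteField.card F p
    rw [hf]
    exact dvd_pow_self p f.ne_zero
  obtain ⟨b, hb0, hb⟩ := exists_orderOf_eq (F := F) (Fintype.card F - 1) dvd_rfl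
  obtain ⟨c, hc⟩ : ∃ c : F, c = (b⁻¹) ^ 2 := ⟨_, rfl⟩
  have hdet : (dmat b c).det = 1 := by
    rw [dmat_det, hc]; field_simp
  obtain ⟨x, hx⟩ : ∃ x : Matrix.SpecialLinearGroup (Fin 3) F,
      (x : Matrix (Fin 3) (Fin 3) F) = dmat b c := ⟨⟨_, hdet⟩, rfl⟩
  refine ⟨(x : Matrix.ProjectiveSpecialLinearGroup (Fin 3) F), ?_⟩
  intro j hj
  obtain ⟨z, -, hz⟩ := (mk_pow_eq_one_iff x j).mp hj
  rw [hx, dmat_pow_scalar_iff b c hb0] at hz
  obtain ⟨h1, h2, h3⟩ := hz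
  have hpj : p ∣ j := (CharP.cast_eq_zero_iff F p j).mp h3
  have hb3 : b ^ (3 * j) = 1 := by
    have h4 : c ^ j * (b ^ j * b ^ j) = 1 := by
      rw [hc, ← mul_pow, ← mul_pow]
      have : b⁻¹ ^ 2 * (b * b) = 1 := by field_simp
      rw [this, one_pow]
    rw [h1, h2] at h4
    have : b ^ (3 * j) = b ^ j * (b ^ j * b ^ j) := by
      rw [← pow_add, ← pow_add]
      congr 1
      ring
    rw [this, h2]
    exact h4
  have h5 : Fintype.card F - 1 ∣ 3 * j := by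
    rw [← hb]
    exact orderOf_dvd_of_pow_eq_one hb3
  have h6 := div_gcd_dvd (Fintype.card F) (Fintype.card F - 1) j (Nat.gcd_dvd_right _ _) h5
    (Dvd.intro _ rfl)
  have hcop : Nat.Coprime p ((Fintype.card F - 1) / Nat.gcd 3 (Fintype.card F - 1)) := by
    apply Nat.Coprime.coprime_dvd_right (Nat.div_dvd_of_dvd (Nat.gcd_dvd_right _ _))
    exact (Nat.Prime.coprime_iff_not_dvd hpp).mpr (not_dvd_sub_one_of_dvd _ p hq hpp hpq)
  exact hcop.mul_dvd_of_dvd_of_dvd hpj h6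

omit [Fintype F] in
theorem jmat_pow (j : ℕ) :
    (!![1, 1, 0; 0, 1, 1; 0, 0, 1] : Matrix (Fin 3) (Fin 3) F) ^ j =
      !![1, (j : F), ((j.choose 2 : ℕ) : F); 0, 1, (j : F); 0, 0, 1] := by
  induction j with
  | zero =>
    ext a a'
    fin_cases a <;> fin_cases a' <;> simp
  | succ j ih =>
    rw [pow_succ, ih]
    have hch : (j + 1).choose 2 = j + j.choose 2 := by
      rw [Nat.choose_succ_succ' j 1, Nat.choose_one_right]
    ext a a'
    fin_cases a <;> fin_cases a' <;>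
      simp [Matrix.mul_apply, Fin.sum_univ_three, hch] <;> ring

omit [Fintype F] in
/-- the regular unipotent element in characteristic two: order `4` -/
theorem exists_unipotent_two [CharP F 2] :
    ∃ x : Matrix.ProjectiveSpecialLinearGroup (Fin 3) F, ∀ j, x ^ j = 1 → 4 ∣ j := by
  have hdet : (!![1, 1, 0; 0, 1, 1; 0, 0, 1] : Matrix (Fin 3) (Fin 3) F).det = 1 := by
    rw [Matrix.det_fin_three]
    simp
  obtain ⟨x, hx⟩ : ∃ x : Matrix.SpecialLinearGroup (Fin 3) F,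
      (x : Matrix (Fin 3) (Fin 3) F) = !![1, 1, 0; 0, 1, 1; 0, 0, 1] := ⟨⟨_, hdet⟩, rfl⟩
  refine ⟨(x : Matrix.ProjectiveSpecialLinearGroup (Fin 3) F), ?_⟩
  intro j hj
  obtain ⟨z, -, hz⟩ := (mk_pow_eq_one_iff x j).mp hj
  rw [hx, jmat_pow] at hz
  have h01 := congrFun (congrFun hz 0) 1
  have h02 := congrFun (congrFun hz 0) 2
  simp at h01 h02
  have h2j : 2 ∣ j := (CharP.cast_eq_zero_iff F 2 j).mp h01
  have h2c : 2 ∣ j.choose 2 := (CharP.cast_eq_zero_iff F 2 _).mp h02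
  obtain ⟨i, rfl⟩ := h2j
  have hch : (2 * i).choose 2 = i * (2 * i - 1) := by
    rw [Nat.choose_two_right]
    have : 2 * i * (2 * i - 1) = 2 * (i * (2 * i - 1)) := by ring
    rw [this, Nat.mul_div_cancel_left _ (by norm_num)]
  rw [hch] at h2c
  rcases (Nat.Prime.dvd_mul Nat.prime_two).mp h2c with h | h
  · obtain ⟨k, rfl⟩ := h
    exact ⟨k, by ring⟩
  · rcases Nat.eq_zero_or_pos i with rfl | hi
    · exact ⟨0, by ring⟩
    · exfalso
      omega

/-- the Singer torus: order `(q² + q + 1) / d` -/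
theorem exists_singer_three (p : ℕ) [Fact p.Prime] [CharP F p] :
    ∃ x : Matrix.ProjectiveSpecialLinearGroup (Fin 3) F, ∀ j, x ^ j = 1 →
      (Fintype.card F ^ 2 + Fintype.card F + 1) / Nat.gcd 3 (Fintype.card F - 1) ∣ j := by
  have hq : 2 ≤ Fintype.card F := Fintype.one_lt_card
  obtain ⟨A, hA⟩ := exists_gl_orderOf (F := F) p 3 (Fintype.card F ^ 3 - 1) dvd_rfl
  have hd0 : (A : Matrix (Fin 3) (Fin 3) F).det ≠ 0 := by
    have := (Matrix.isUnit_iff_isUnit_det _).mp A.isUnit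
    exact this.ne_zero
  have hdet : ((A : Matrix (Fin 3) (Fin 3) F) ^ (Fintype.card F - 1)).det = 1 := by
    rw [Matrix.det_pow]
    exact FiniteField.pow_card_sub_one_eq_one _ hd0
  obtain ⟨x, hx⟩ : ∃ x : Matrix.SpecialLinearGroup (Fin 3) F,
      (x : Matrix (Fin 3) (Fin 3) F) = (A : Matrix (Fin 3) (Fin 3) F) ^ (Fintype.card F - 1) :=
    ⟨⟨_, hdet⟩, rfl⟩
  refine ⟨(x : Matrix.ProjectiveSpecialLinearGroup (Fin 3) F), ?_⟩
  intro j hj
  obtain ⟨z, hz3, hz⟩ := (mk_pow_eq_one_iff x j).mp hj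
  have hz0 : z ≠ 0 := by
    rintro rfl
    simp at hz3
  have hzq : z ^ (Fintype.card F - 1) = 1 := FiniteField.pow_card_sub_one_eq_one z hz0
  have h1 : (A : Matrix (Fin 3) (Fin 3) F) ^ ((Fintype.card F - 1) * (j * (Fintype.card F - 1)))
      = 1 := by
    rw [pow_mul, pow_mul, ← hx, hz, smul_pow, one_pow, hzq, one_smul]
  have h2 : A ^ ((Fintype.card F - 1) * (j * (Fintype.card F - 1))) = 1 := by
    apply Units.ext
    rw [Units.val_pow_eq_pow_val, h1, Units.val_one]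
  have h3 := orderOf_dvd_of_pow_eq_one h2
  rw [hA] at h3
  have h4 : Fintype.card F ^ 3 - 1 = (Fintype.card F - 1) * (Fintype.card F ^ 2 +
      Fintype.card F + 1) := by
    have := cube_sub_one_div (Fintype.card F) hq
    rw [← this, Nat.mul_div_cancel' (Nat.sub_one_dvd_pow_sub_one _ _)]
  rw [h4] at h3
  have h5 := Nat.dvd_of_mul_dvd_mul_left (by omega) h3
  exact sq_add_div_gcd_dvd _ j (by omega) h5

/-- the torus `GL_1(q²)`: order `(q² - 1) / d` -/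
theorem exists_torus_two (p : ℕ) [Fact p.Prime] [CharP F p] :
    ∃ x : Matrix.ProjectiveSpecialLinearGroup (Fin (2 + 1)) F, ∀ j, x ^ j = 1 →
      (Fintype.card F ^ 2 - 1) / Nat.gcd 3 (Fintype.card F - 1) ∣ j := by
  have hq : 2 ≤ Fintype.card F := Fintype.one_lt_card
  obtain ⟨A, hA⟩ := exists_gl_orderOf (F := F) p 2 (Fintype.card F ^ 2 - 1) dvd_rfl
  have hd0 : (A : Matrix (Fin 2) (Fin 2) F).det ≠ 0 := by
    have := (Matrix.isUnit_iff_isUnit_det _).mp A.isUnit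
    exact this.ne_zero
  obtain ⟨b, hb⟩ : ∃ b : F, b = ((A : Matrix (Fin 2) (Fin 2) F).det)⁻¹ := ⟨_, rfl⟩
  have hdet : (blockHom (F := F) 2 1 ((A : Matrix (Fin 2) (Fin 2) F),
      b • (1 : Matrix (Fin 1) (Fin 1) F))).det = 1 := by
    rw [det_blockHom, Matrix.det_smul, Matrix.det_one, mul_one, Fintype.card_fin, pow_one, hb,
      mul_inv_cancel₀ hd0]
  obtain ⟨x, hx⟩ : ∃ x : Matrix.SpecialLinearGroup (Fin (2 + 1)) F,
      (x : Matrix (Fin (2 + 1)) (Fin (2 + 1)) F) =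
        blockHom (F := F) 2 1 ((A : Matrix (Fin 2) (Fin 2) F),
          b • (1 : Matrix (Fin 1) (Fin 1) F)) := ⟨⟨_, hdet⟩, rfl⟩
  refine ⟨(x : Matrix.ProjectiveSpecialLinearGroup (Fin (2 + 1)) F), ?_⟩
  intro j hj
  obtain ⟨z, hz3, hz⟩ := (mk_pow_eq_one_iff x j).mp hj
  have hz0 : z ≠ 0 := by
    rintro rfl
    simp at hz3
  have hzq : z ^ (Fintype.card F - 1) = 1 := FiniteField.pow_card_sub_one_eq_one z hz0
  rw [hx, ← map_pow, Prod.pow_mk] at hz
  obtain ⟨hB, -⟩ := blockHom_eq_smul_one 2 1 _ _ z hz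
  have hpow : ∀ e : ℕ, z ^ e = 1 → A ^ (e * j) = 1 := by
    intro e he
    apply Units.ext
    rw [Units.val_pow_eq_pow_val, mul_comm, pow_mul, hB, smul_pow, one_pow, he, one_smul,
      Units.val_one]
  have h3 : Fintype.card F ^ 2 - 1 ∣ 3 * j := by
    rw [← hA]
    exact orderOf_dvd_of_pow_eq_one (hpow 3 hz3)
  have h4 : Fintype.card F ^ 2 - 1 ∣ (Fintype.card F - 1) * j := by
    rw [← hA]
    exact orderOf_dvd_of_pow_eq_one (hpow _ hzq)
  refine div_gcd_dvd (Fintype.card F) _ j ?_ h3 h4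
  rw [sq_sub_one_eq _ (by omega)]
  exact Dvd.dvd.mul_right (Nat.gcd_dvd_right _ _) _

end Cfsg.Agent.Lib.Helper5.Spec3
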