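import Mathlib

set_option autoImplicit false

/-! The root of a monic irreducible polynomial over a finite field: its norm as a power. -/

namespace Cfsg.Agent.Lib.Helper5.Spec3

open Polynomial

variable {F : Type*} [Field F] [Fintype F]

theorem root_pow_eq (f : F[X]) (hm : f.Monic) [hirr : Fact (Irreducible f)] :
    (AdjoinRoot.root f) ^ ((Fintype.card F ^ f.natDegree - 1) / (Fintype.card F - 1)) =
      algebraMap F (AdjoinRoot f) ((-1) ^ f.natDegree * f.coeff 0) := by
  have hf0 : f ≠ 0 := hm.ne_zero
  have hfinM : Module.Finite F (AdjoinRoot f) := (AdjoinRoot.powerBasis hf0).finite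
  have hfin : Finite (AdjoinRoot f) := Module.finite_of_finite F
  have hcard : Nat.card (AdjoinRoot f) = Fintype.card F ^ f.natDegree := by
    rw [Module.natCard_eq_pow_finrank (K := F), Nat.card_eq_fintype_card,
      (AdjoinRoot.powerBasis hf0).finrank, AdjoinRoot.powerBasis_dim]
  have h1 := FiniteField.algebraMap_norm_eq_pow (K := F) (K' := AdjoinRoot f)
    (x := AdjoinRoot.root f)
  rw [hcard, Nat.card_eq_fintype_card] at h1
  rw [← h1]
  congr 1
  have h2 := Algebra.PowerBasis.norm_gen_eq_coeff_zero_minpoly (AdjoinRoot.powerBasis hf0)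
  rw [AdjoinRoot.minpoly_powerBasis_gen_of_monic hm, AdjoinRoot.powerBasis_gen,
    AdjoinRoot.powerBasis_dim] at h2
  exact h2

omit [Fintype F] in
/-- divisibility of `X ^ N - C z` by an irreducible polynomial through its root -/
theorem dvd_of_root_pow (f : F[X]) (N : ℕ) (z : F)
    (h : (AdjoinRoot.root f) ^ N = algebraMap F (AdjoinRoot f) z) : f ∣ X ^ N - C z := by
  rw [← AdjoinRoot.mk_eq_zero, map_sub, map_pow, AdjoinRoot.mk_X, AdjoinRoot.mk_C, h]
  exact sub_self _

end Cfsg.Agent.Lib.Helper5.Spec3
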