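import Mathlib
import Cfsg.Agent.Lib.Helper5.Spec3.Norm
import Cfsg.Agent.Lib.Helper5.Spec3.NT3
import Cfsg.Agent.Lib.Helper5.HalfTorus.Model

set_option autoImplicit false

/-! A monic cubic `χ` over `F_q` with `χ(0) = -1` divides `X ^ N - z` for one of the five values
of `N` in the spectrum of `PSL_3(q)`. -/

namespace Cfsg.Agent.Lib.Helper5.Spec3

open Polynomial Cfsg.Agent.Lib.Helper5.HalfTorus

variable {F : Type*} [Field F] [Fintype F]

theorem pow_card_sub_one' (a : F) (ha : a ≠ 0) : a ^ (Fintype.card F - 1) = 1 :=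
  FiniteField.pow_card_sub_one_eq_one a ha

omit [Fintype F] in
theorem X_sub_C_dvd_pow_sub (a z : F) (N : ℕ) (h : a ^ N = z) :
    (X - C a : F[X]) ∣ X ^ N - C z := by
  rw [dvd_iff_isRoot, IsRoot.def, eval_sub, eval_pow, eval_X, eval_C, h, sub_self]

/-- irreducible cubic -/
theorem irreducible_case (χ : F[X]) (hm : χ.Monic) (hdeg : χ.natDegree = 3)
    (h0 : χ.coeff 0 = -1) (hirr : Irreducible χ) :
    ∃ z : F, χ ∣ X ^ ((Fintype.card F ^ 2 + Fintype.card F + 1) /
      Nat.gcd 3 (Fintype.card F - 1)) - C z := by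
  have hq : 2 ≤ Fintype.card F := Fintype.one_lt_card
  have hfact : Fact (Irreducible χ) := ⟨hirr⟩
  have h1 := root_pow_eq χ hm
  rw [hdeg, h0, cube_sub_one_div _ hq] at h1
  have h2 : ((-1 : F)) ^ 3 * -1 = 1 := by ring
  rw [h2, map_one] at h1
  obtain ⟨s1, hs1⟩ := gcd_dvd_sq_add (Fintype.card F) (by omega)
  obtain ⟨u, hu⟩ := Nat.gcd_dvd_right 3 (Fintype.card F - 1)
  have hpow : ((AdjoinRoot.root χ) ^ ((Fintype.card F ^ 2 + Fintype.card F + 1) /
      Nat.gcd 3 (Fintype.card F - 1))) ^ (Fintype.card F - 1) = 1 := by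
    rw [← pow_mul]
    have : (Fintype.card F ^ 2 + Fintype.card F + 1) / Nat.gcd 3 (Fintype.card F - 1) *
        (Fintype.card F - 1) = (Fintype.card F ^ 2 + Fintype.card F + 1) * u := by
      rw [hs1, Nat.mul_div_cancel_left _ (gcd_three_pos _)]
      nth_rewrite 1 [hu]
      ring
    rw [this, pow_mul, h1, one_pow]
  obtain ⟨z, hz⟩ := exists_algebraMap_eq_of_pow _ _ hpow
  exact ⟨z, dvd_of_root_pow χ _ z hz⟩

/-- linear times irreducible quadratic -/
theorem quadratic_case (a : F) (g : F[X]) (hm : g.Monic) (hdeg : g.natDegree = 2)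
    (h0 : a * g.coeff 0 = 1) (hirr : Irreducible g) :
    ∃ z : F, (X - C a) * g ∣ X ^ ((Fintype.card F ^ 2 - 1) /
      Nat.gcd 3 (Fintype.card F - 1)) - C z := by
  have hq : 2 ≤ Fintype.card F := Fintype.one_lt_card
  have hfact : Fact (Irreducible g) := ⟨hirr⟩
  have h1 := root_pow_eq g hm
  rw [hdeg, sq_sub_one_div _ hq] at h1
  have h2 : ((-1 : F)) ^ 2 * g.coeff 0 = g.coeff 0 := by ring
  rw [h2] at h1
  obtain ⟨e, he⟩ : ∃ e, e = g.coeff 0 := ⟨_, rfl⟩
  rw [← he] at h0 h1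
  have he0 : e ≠ 0 := by
    rintro rfl
    rw [mul_zero] at h0
    exact zero_ne_one h0
  obtain ⟨j₀, hj₀⟩ : ∃ j₀, j₀ = (Fintype.card F - 1) / Nat.gcd 3 (Fintype.card F - 1) := ⟨_, rfl⟩
  rw [sq_sub_one_div_gcd _ (by omega), ← hj₀]
  refine ⟨e ^ j₀, ?_⟩
  have hg : g ∣ X ^ ((Fintype.card F + 1) * j₀) - C (e ^ j₀) := by
    apply dvd_of_root_pow
    rw [pow_mul, h1, map_pow]
  have ha : (X - C a : F[X]) ∣ X ^ ((Fintype.card F + 1) * j₀) - C (e ^ j₀) := by
    apply X_sub_C_dvd_pow_sub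
    obtain ⟨v, hv⟩ := gcd_dvd_add_two (Fintype.card F) (by omega)
    have h3 : e ^ ((Fintype.card F + 1) * j₀) * e ^ j₀ = 1 := by
      rw [← pow_add]
      have : (Fintype.card F + 1) * j₀ + j₀ = (Fintype.card F - 1) * v := by
        have h4 : (Fintype.card F + 1) * j₀ + j₀ = (Fintype.card F + 2) * j₀ := by ring
        rw [h4, hv, hj₀, mul_comm (Nat.gcd 3 (Fintype.card F - 1)) v, mul_assoc,
          Nat.mul_div_cancel' (Nat.gcd_dvd_right _ _)]
        ring
      rw [this, pow_mul, pow_card_sub_one' e he0, one_pow]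
    have h5 : a ^ ((Fintype.card F + 1) * j₀) * e ^ ((Fintype.card F + 1) * j₀) = 1 := by
      rw [← mul_pow, h0, one_pow]
    calc a ^ ((Fintype.card F + 1) * j₀)
        = a ^ ((Fintype.card F + 1) * j₀) * (e ^ ((Fintype.card F + 1) * j₀) * e ^ j₀) := by
          rw [h3, mul_one]
      _ = e ^ j₀ := by rw [← mul_assoc, h5, one_mul]
  have hcop : IsCoprime (X - C a : F[X]) g := by
    apply ((irreducible_X_sub_C a).coprime_iff_not_dvd).mpr
    intro hdvd
    have hroot : g.IsRoot a := dvd_iff_isRoot.mp hdvd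
    have := (hm.irreducible_iff_roots_eq_zero_of_degree_le_three (by omega) (by omega)).mp hirr
    have hmem : a ∈ g.roots := (mem_roots hm.ne_zero).mpr hroot
    rw [this] at hmem
    exact absurd hmem (Multiset.notMem_zero a)
  exact hcop.mul_dvd ha hg

omit [Fintype F] in
theorem coprime_X_sub_C (a b : F) (hab : a ≠ b) : IsCoprime (X - C a : F[X]) (X - C b) :=
  isCoprime_X_sub_C_of_isUnit_sub (sub_ne_zero.mpr hab).isUnit

/-- three distinct roots -/
theorem distinct_case (a b c : F) (hab : a ≠ b) (hac : a ≠ c) (hbc : b ≠ c)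
    (h1 : a * b * c = 1) :
    (X - C a) * (X - C b) * (X - C c) ∣ X ^ (Fintype.card F - 1) - C (1 : F) := by
  have ha0 : a ≠ 0 := by rintro rfl; simp at h1
  have hb0 : b ≠ 0 := by rintro rfl; simp at h1
  have hc0 : c ≠ 0 := by rintro rfl; simp at h1
  have hA := X_sub_C_dvd_pow_sub a 1 _ (pow_card_sub_one' a ha0)
  have hB := X_sub_C_dvd_pow_sub b 1 _ (pow_card_sub_one' b hb0)
  have hC := X_sub_C_dvd_pow_sub c 1 _ (pow_card_sub_one' c hc0)
  have hAB := (coprime_X_sub_C a b hab).mul_dvd hA hB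
  exact (IsCoprime.mul_left (coprime_X_sub_C a c hac) (coprime_X_sub_C b c hbc)).mul_dvd hAB hC

/-- a double root -/
theorem double_case (p : ℕ) [Fact p.Prime] [CharP F p] (a c : F) (hac : a ≠ c)
    (h1 : a * a * c = 1) :
    ∃ z : F, (X - C a) * (X - C a) * (X - C c) ∣
      X ^ (p * ((Fintype.card F - 1) / Nat.gcd 3 (Fintype.card F - 1))) - C z := by
  have hpp : p.Prime := Fact.out
  have ha0 : a ≠ 0 := by rintro rfl; simp at h1
  obtain ⟨j₀, hj₀⟩ : ∃ j₀, j₀ = (Fintype.card F - 1) / Nat.gcd 3 (Fintype.card F - 1) := ⟨_, rfl⟩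
  rw [← hj₀]
  obtain ⟨w, hw⟩ : ∃ w, w = a ^ j₀ := ⟨_, rfl⟩
  obtain ⟨v, hv⟩ := Nat.gcd_dvd_left 3 (Fintype.card F - 1)
  have hw3 : w * w * w = 1 := by
    rw [hw, ← pow_add, ← pow_add]
    have : j₀ + j₀ + j₀ = (Fintype.card F - 1) * v := by
      have h3 : j₀ + j₀ + j₀ = 3 * j₀ := by ring
      rw [h3]
      nth_rewrite 1 [hv]
      rw [hj₀, mul_comm (Nat.gcd 3 (Fintype.card F - 1)) v, mul_assoc,
        Nat.mul_div_cancel' (Nat.gcd_dvd_right _ _)]
      ring
    rw [this, pow_mul, pow_card_sub_one' a ha0, one_pow]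
  have hcw : c ^ j₀ = w := by
    have h2 : c ^ j₀ * (w * w) = 1 := by
      rw [hw, ← mul_pow, ← mul_pow]
      have : c * (a * a) = 1 := by rw [← h1]; ring
      rw [this, one_pow]
    calc c ^ j₀ = c ^ j₀ * (w * w * w) := by rw [hw3, mul_one]
      _ = (c ^ j₀ * (w * w)) * w := by ring
      _ = w := by rw [h2, one_mul]
  refine ⟨w ^ p, ?_⟩
  have hA := X_sub_C_dvd_pow_sub a w j₀ hw.symm
  have hC := X_sub_C_dvd_pow_sub c w j₀ hcw
  have hAC := (coprime_X_sub_C a c hac).mul_dvd hA hC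
  have hpow : (X ^ j₀ - C w : F[X]) ^ p = X ^ (p * j₀) - C (w ^ p) := by
    rw [sub_pow_char, ← pow_mul, mul_comm j₀ p, ← C_pow]
  rw [← hpow]
  refine Dvd.dvd.trans ?_ (pow_dvd_pow_of_dvd hAC p)
  refine Dvd.dvd.trans ?_ (pow_dvd_pow _ hpp.two_le)
  refine ⟨X - C c, ?_⟩
  ring

omit [Fintype F] in
/-- a triple root, odd characteristic -/
theorem triple_case_odd (p : ℕ) [Fact p.Prime] [CharP F p] (hp3 : 3 ≤ p) (a : F) :
    (X - C a : F[X]) * (X - C a) * (X - C a) ∣ X ^ p - C (a ^ p) := by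
  have hpow : (X - C a : F[X]) ^ p = X ^ p - C (a ^ p) := by
    rw [sub_pow_char, ← C_pow]
  rw [← hpow]
  refine Dvd.dvd.trans ?_ (pow_dvd_pow _ hp3)
  exact ⟨1, by ring⟩

omit [Fintype F] in
/-- a triple root, characteristic two -/
theorem triple_case_two [CharP F 2] (a : F) :
    (X - C a : F[X]) * (X - C a) * (X - C a) ∣ X ^ 4 - C (a ^ 4) := by
  have hF : Fact (Nat.Prime 2) := ⟨Nat.prime_two⟩
  have hpow : (X - C a : F[X]) ^ 2 ^ 2 = X ^ 2 ^ 2 - C (a ^ 2 ^ 2) := by
    rw [sub_pow_char_pow, ← C_pow]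
  have h4 : 2 ^ 2 = 4 := by norm_num
  rw [h4] at hpow
  rw [← hpow]
  exact ⟨X - C a, by ring⟩

omit [Fintype F] in
theorem factor_of_root (χ : F[X]) (hm : χ.Monic) (n : ℕ) (hdeg : χ.natDegree = n + 1) (a : F)
    (ha : χ.IsRoot a) :
    ∃ g : F[X], g.Monic ∧ g.natDegree = n ∧ χ = (X - C a) * g ∧ χ.coeff 0 = -a * g.coeff 0 := by
  have hχ : (X - C a) * (χ /ₘ (X - C a)) = χ := mul_divByMonic_eq_iff_isRoot.mpr ha
  have hgm : (χ /ₘ (X - C a)).Monic :=
    Monic.of_mul_monic_left (monic_X_sub_C a) (by rw [hχ]; exact hm)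
  refine ⟨χ /ₘ (X - C a), hgm, ?_, hχ.symm, ?_⟩
  · have := Monic.natDegree_mul (monic_X_sub_C a) hgm
    rw [hχ, hdeg, natDegree_X_sub_C] at this
    omega
  · nth_rewrite 1 [← hχ]
    rw [mul_coeff_zero, coeff_sub, coeff_X_zero, coeff_C_zero, zero_sub]

omit [Fintype F] in
theorem irreducible_of_no_root (g : F[X]) (hm : g.Monic) (h2 : 2 ≤ g.natDegree)
    (h3 : g.natDegree ≤ 3) (hno : ¬ ∃ b, g.IsRoot b) : Irreducible g := by
  rw [hm.irreducible_iff_roots_eq_zero_of_degree_le_three h2 h3]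
  apply Multiset.eq_zero_of_forall_notMem
  intro b hb
  exact hno ⟨b, (mem_roots hm.ne_zero).mp hb⟩

/-- the polynomial form of the upper bound for the spectrum: split case -/
theorem exists_pow_dvd_split (p : ℕ) [Fact p.Prime] [CharP F p] (a b c : F)
    (habc : a * b * c = 1) :
    ∃ (N : ℕ) (z : F), (X - C a) * (X - C b) * (X - C c) ∣ X ^ N - C z ∧
      (N = Fintype.card F - 1 ∨
        N = p * ((Fintype.card F - 1) / Nat.gcd 3 (Fintype.card F - 1)) ∨ (p = 2 ∧ N = 4)) := by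
  have hpp : p.Prime := Fact.out
  by_cases hab : a = b
  · by_cases hbc : b = c
    · -- triple root
      subst hab
      subst hbc
      rcases Nat.lt_or_ge p 3 with hp | hp
      · have hp2 : p = 2 := by have := hpp.two_le; omega
        subst hp2
        refine ⟨4, a ^ 4, triple_case_two a, ?_⟩
        right; right
        exact ⟨rfl, rfl⟩
      · have hdvd := triple_case_odd p hp a
        refine ⟨p * ((Fintype.card F - 1) / Nat.gcd 3 (Fintype.card F - 1)),
          (a ^ p) ^ ((Fintype.card F - 1) / Nat.gcd 3 (Fintype.card F - 1)), ?_, ?_⟩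
        · refine Dvd.dvd.trans hdvd ?_
          have e2 : (C ((a ^ p) ^ ((Fintype.card F - 1) / Nat.gcd 3 (Fintype.card F - 1))) : F[X])
              = (C (a ^ p)) ^ ((Fintype.card F - 1) / Nat.gcd 3 (Fintype.card F - 1)) := C_pow
          rw [pow_mul, e2]
          exact sub_dvd_pow_sub_pow (X ^ p : F[X]) (C (a ^ p)) _
        · right; left; rfl
    · subst hab
      obtain ⟨z, hz⟩ := double_case p a c hbc habc
      refine ⟨_, z, hz, ?_⟩
      right; left; rfl
  · by_cases hac : a = c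
    · subst hac
      obtain ⟨z, hz⟩ := double_case p a b hab (by rw [← habc]; ring)
      refine ⟨p * ((Fintype.card F - 1) / Nat.gcd 3 (Fintype.card F - 1)), z, ?_, ?_⟩
      · have : (X - C a : F[X]) * (X - C b) * (X - C a) = (X - C a) * (X - C a) * (X - C b) := by
          ring
        rw [this]
        exact hz
      · right; left; rfl
    · by_cases hbc : b = c
      · subst hbc
        obtain ⟨z, hz⟩ := double_case p b a (fun h => hab h.symm) (by rw [← habc]; ring)
        refine ⟨p * ((Fintype.card F - 1) / Nat.gcd 3 (Fintype.card F - 1)), z, ?_, ?_⟩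
        · have : (X - C a : F[X]) * (X - C b) * (X - C b) =
              (X - C b) * (X - C b) * (X - C a) := by ring
          rw [this]
          exact hz
        · right; left; rfl
      · refine ⟨_, 1, distinct_case a b c hab hac hbc habc, ?_⟩
        left; rfl

/-- the polynomial form of the upper bound for the spectrum -/
theorem exists_pow_dvd (p : ℕ) [Fact p.Prime] [CharP F p] (χ : F[X]) (hm : χ.Monic)
    (hdeg : χ.natDegree = 3) (h0 : χ.coeff 0 = -1) :
    ∃ (N : ℕ) (z : F), χ ∣ X ^ N - C z ∧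
      (N = (Fintype.card F ^ 2 + Fintype.card F + 1) / Nat.gcd 3 (Fintype.card F - 1) ∨
        N = (Fintype.card F ^ 2 - 1) / Nat.gcd 3 (Fintype.card F - 1) ∨
        N = Fintype.card F - 1 ∨
        N = p * ((Fintype.card F - 1) / Nat.gcd 3 (Fintype.card F - 1)) ∨ (p = 2 ∧ N = 4)) := by
  by_cases hroot : ∃ a, χ.IsRoot a
  · obtain ⟨a, ha⟩ := hroot
    obtain ⟨g, hgm, hgdeg, hχ, hc0⟩ := factor_of_root χ hm 2 hdeg a ha
    have hag : a * g.coeff 0 = 1 := by
      rw [h0] at hc0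
      linear_combination hc0
    by_cases hroot2 : ∃ b, g.IsRoot b
    · obtain ⟨b, hb⟩ := hroot2
      obtain ⟨h, hhm, hhdeg, hg, hd0⟩ := factor_of_root g hgm 1 hgdeg b hb
      obtain ⟨c, hc⟩ : ∃ c, c = -h.coeff 0 := ⟨_, rfl⟩
      have hh : h = X - C c := by
        rw [hhm.eq_X_add_C hhdeg, hc, map_neg, sub_neg_eq_add]
      have habc : a * b * c = 1 := by
        rw [hd0] at hag
        rw [hc]
        linear_combination hag
      have hχ' : χ = (X - C a) * (X - C b) * (X - C c) := by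
        rw [hχ, hg, hh, mul_assoc]
      rw [hχ']
      obtain ⟨N, z, h1, h2⟩ := exists_pow_dvd_split p a b c habc
      refine ⟨N, z, h1, ?_⟩
      right; right
      exact h2
    · have hirr := irreducible_of_no_root g hgm (by omega) (by omega) hroot2
      obtain ⟨z, hz⟩ := quadratic_case a g hgm hgdeg hag hirr
      rw [hχ]
      refine ⟨_, z, hz, ?_⟩
      right; left; rfl
  · have hirr := irreducible_of_no_root χ hm (by omega) (by omega) hroot
    obtain ⟨z, hz⟩ := irreducible_case χ hm hdeg h0 hirr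
    refine ⟨_, z, hz, ?_⟩
    left; rfl

end Cfsg.Agent.Lib.Helper5.Spec3
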