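import Mathlib
import Cfsg.Agent.Lib.Helper5.Spec3.Upper
import Cfsg.Agent.Lib.Helper5.SpecSL.ExistK1

set_option autoImplicit false

/-! Every element order of `PSL_3(q)` divides one of the five numbers. -/

namespace Cfsg.Agent.Lib.Helper5.Spec3

open Polynomial Cfsg.Agent.Lib.Helper5.SpecSL

variable {F : Type*} [Field F] [Fintype F]

omit [Fintype F] in
theorem pow_eq_smul_of_charpoly_dvd (X : Matrix (Fin 3) (Fin 3) F) (N : ℕ) (z : F)
    (h : X.charpoly ∣ Polynomial.X ^ N - C z) : X ^ N = z • (1 : Matrix (Fin 3) (Fin 3) F) := by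
  obtain ⟨g, hg⟩ := h
  have h1 := congrArg (aeval X) hg
  rw [map_mul, Matrix.aeval_self_charpoly, zero_mul, map_sub, map_pow, aeval_X, aeval_C,
    sub_eq_zero, Algebra.algebraMap_eq_smul_one] at h1
  exact h1

theorem orderOf_dvd_of_psl3 (p : ℕ) [Fact p.Prime] [CharP F p]
    (x : Matrix.ProjectiveSpecialLinearGroup (Fin 3) F) :
    orderOf x ∣ (Fintype.card F ^ 2 + Fintype.card F + 1) / Nat.gcd 3 (Fintype.card F - 1) ∨
      orderOf x ∣ (Fintype.card F ^ 2 - 1) / Nat.gcd 3 (Fintype.card F - 1) ∨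
      orderOf x ∣ Fintype.card F - 1 ∨
      orderOf x ∣ p * (Fintype.card F - 1) / Nat.gcd 3 (Fintype.card F - 1) ∨
      (p = 2 ∧ orderOf x ∣ 4) := by
  obtain ⟨x0, rfl⟩ := QuotientGroup.mk_surjective x
  obtain ⟨X, hX⟩ : ∃ X : Matrix (Fin 3) (Fin 3) F, X = (x0 : Matrix (Fin 3) (Fin 3) F) :=
    ⟨_, rfl⟩
  have hdX : X.det = 1 := by rw [hX]; exact x0.det_coe
  have hm : X.charpoly.Monic := Matrix.charpoly_monic X
  have hdeg : X.charpoly.natDegree = 3 := by
    rw [Matrix.charpoly_natDegree_eq_dim, Fintype.card_fin]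
  have h0 : X.charpoly.coeff 0 = -1 := by
    have := Matrix.det_eq_sign_charpoly_coeff X
    rw [hdX, Fintype.card_fin] at this
    linear_combination this
  obtain ⟨N, z, hdvd, hN⟩ := exists_pow_dvd p X.charpoly hm hdeg h0
  have hXN := pow_eq_smul_of_charpoly_dvd X N z hdvd
  have hz3 : z ^ 3 = 1 := by
    have := congrArg Matrix.det hXN
    rw [Matrix.det_pow, hdX, one_pow, Matrix.det_smul, Matrix.det_one, mul_one,
      Fintype.card_fin] at this
    exact this.symm
  have hone : ((x0 : Matrix.ProjectiveSpecialLinearGroup (Fin 3) F)) ^ N = 1 := by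
    rw [mk_pow_eq_one_iff]
    exact ⟨z, hz3, by rw [← hX]; exact hXN⟩
  have hord := orderOf_dvd_of_pow_eq_one hone
  rcases hN with h | h | h | h | ⟨h2, h⟩
  · left; rw [← h]; exact hord
  · right; left; rw [← h]; exact hord
  · right; right; left; rw [← h]; exact hord
  · right; right; right; left
    rw [Nat.mul_div_assoc p (Nat.gcd_dvd_right _ _), ← h]
    exact hord
  · right; right; right; right
    exact ⟨h2, by rw [← h]; exact hord⟩

end Cfsg.Agent.Lib.Helper5.Spec3
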