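import Mathlib
import Cfsg.Agent.Lib.Helper5.Spec3.Upper2
import Cfsg.Agent.Lib.Helper5.Spec3.Lower

set_option autoImplicit false

/-! The spectrum of `PSL_3(q)`. -/

namespace Cfsg.Agent.Lib.Helper5.Spec3

theorem psl3_spectrum {F : Type*} [Field F] [Fintype F] (p : ℕ) [Fact p.Prime] [CharP F p] :
    Set.range (orderOf : Matrix.ProjectiveSpecialLinearGroup (Fin 3) F → ℕ) =
      {m : ℕ | m ∣ (Fintype.card F ^ 2 + Fintype.card F + 1) / Nat.gcd 3 (Fintype.card F - 1) ∨
        m ∣ (Fintype.card F ^ 2 - 1) / Nat.gcd 3 (Fintype.card F - 1) ∨ m ∣ Fintype.card F - 1 ∨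
        m ∣ p * (Fintype.card F - 1) / Nat.gcd 3 (Fintype.card F - 1) ∨ (p = 2 ∧ m ∣ 4)} := by
  ext m
  rw [Set.mem_range, Set.mem_ofPred_eq]
  constructor
  · rintro ⟨x, rfl⟩
    exact orderOf_dvd_of_psl3 p x
  · rintro (h | h | h | h | ⟨h2, h⟩)
    · obtain ⟨x, hx⟩ := exists_singer_three (F := F) p
      exact exists_orderOf_of_forall x _ hx m h
    · obtain ⟨x, hx⟩ := exists_torus_two (F := F) p
      exact exists_orderOf_of_forall x _ hx m h
    · obtain ⟨x, hx⟩ := exists_diag (F := F)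
      exact exists_orderOf_of_forall x _ hx m h
    · obtain ⟨x, hx⟩ := exists_jordan_two (F := F) p
      rw [Nat.mul_div_assoc p (Nat.gcd_dvd_right _ _)] at h
      exact exists_orderOf_of_forall x _ hx m h
    · subst h2
      obtain ⟨x, hx⟩ := exists_unipotent_two (F := F)
      exact exists_orderOf_of_forall x _ hx m h

end Cfsg.Agent.Lib.Helper5.Spec3
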